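import Groth.Agent.L03.GeomReduced2
import Mathlib.RingTheory.LocalProperties.Reduced
import Mathlib.RingTheory.Localization.BaseChange

/-!
Geometrically reduced algebras: products with reduced algebras, transitivity, base change and
localization.
-/

universe u

open TensorProduct

namespace Groth.L13.PseudoComplete

/-- The product of a reduced and a geometrically reduced algebra is reduced. -/
theorem isReduced_tensorProduct_of_isReduced (K S A : Type u) [Field K] [CommRing S] [Algebra K S]
    [IsReduced S] [CommRing A] [Algebra K A] [Algebra.IsGeometricallyReduced K A] :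
    IsReduced (S ⊗[K] A) := by
  refine ⟨fun t ht => ?_⟩
  let b := Module.Free.chooseBasis K A
  let B := Algebra.TensorProduct.basis S b
  refine B.repr.map_eq_zero_iff.1 (Finsupp.ext fun i => IsReduced.eq_zero _ ((nilpotent_iff_mem_prime).2 fun P hP => ?_))
  let φ : S ⊗[K] A →ₐ[K] P.ResidueField ⊗[K] A :=
    Algebra.TensorProduct.map (IsScalarTower.toAlgHom K S P.ResidueField) (AlgHom.id K A)
  haveI : IsReduced (P.ResidueField ⊗[K] A) :=
    Groth.L03.GeomReduced2.isReduced_of_isGeometricallyReduced P.ResidueField
  let B' := Algebra.TensorProduct.basis P.ResidueField b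
  have key : ∀ z l, B'.repr (φ z) l = algebraMap S P.ResidueField (B.repr z l) := by
    intro z l
    induction z using TensorProduct.induction_on with
    | zero => simp
    | tmul s a =>
      simp [φ, B, B', Algebra.TensorProduct.basis_repr_tmul, Algebra.smul_def, IsScalarTower.algebraMap_apply K S P.ResidueField]
    | add z w hz hw => simp [hz, hw]
  have h0 : φ t = 0 := IsReduced.eq_zero _ (ht.map φ)
  rw [← Ideal.algebraMap_residueField_eq_zero, ← key, h0, map_zero, Finsupp.zero_apply]

/-- Geometric reducedness is transitive along fields. -/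
theorem isGeometricallyReduced_trans (k k' A : Type u) [Field k] [Field k'] [CommRing A]
    [Algebra k k'] [Algebra k' A] [Algebra k A] [IsScalarTower k k' A]
    [Algebra.IsGeometricallyReduced k k'] [Algebra.IsGeometricallyReduced k' A] :
    Algebra.IsGeometricallyReduced k A := by
  rw [Algebra.isGeometricallyReduced_field_iff]
  let Ω := AlgebraicClosure k
  haveI : IsReduced (Ω ⊗[k] k') := Groth.L03.GeomReduced2.isReduced_of_isGeometricallyReduced Ω
  haveI : IsReduced (k' ⊗[k] Ω) :=
    isReduced_of_injective (Algebra.TensorProduct.comm k k' Ω).toAlgHom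
      (Algebra.TensorProduct.comm k k' Ω).injective
  haveI : IsReduced ((k' ⊗[k] Ω) ⊗[k'] A) := isReduced_tensorProduct_of_isReduced k' _ A
  haveI : IsReduced (A ⊗[k'] (k' ⊗[k] Ω)) :=
    isReduced_of_injective (Algebra.TensorProduct.comm k' A (k' ⊗[k] Ω)).toAlgHom
      (Algebra.TensorProduct.comm k' A (k' ⊗[k] Ω)).injective
  haveI : IsReduced (A ⊗[k] Ω) :=
    isReduced_of_injective (Algebra.TensorProduct.cancelBaseChange k k' A A Ω).symm.toAlgHom
      (Algebra.TensorProduct.cancelBaseChange k k' A A Ω).symm.injective
  exact isReduced_of_injective (Algebra.TensorProduct.comm k Ω A).toAlgHom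
    (Algebra.TensorProduct.comm k Ω A).injective

/-- Base change of geometrically reduced algebras. -/
theorem isGeometricallyReduced_baseChange (k k' S : Type u) [Field k] [Field k'] [CommRing S]
    [Algebra k k'] [Algebra k S] [Algebra.IsGeometricallyReduced k S] :
    Algebra.IsGeometricallyReduced k' (k' ⊗[k] S) := by
  rw [Algebra.isGeometricallyReduced_field_iff]
  let Ω := AlgebraicClosure k'
  haveI : IsReduced (Ω ⊗[k] S) := Groth.L03.GeomReduced2.isReduced_of_isGeometricallyReduced Ω
  exact isReduced_of_injective (Algebra.TensorProduct.cancelBaseChange k k' Ω Ω S).toAlgHom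
    (Algebra.TensorProduct.cancelBaseChange k k' Ω Ω S).injective

/-- Localizations of geometrically reduced algebras. -/
theorem isGeometricallyReduced_of_isLocalization {k S : Type u} [Field k] [CommRing S] [Algebra k S]
    [Algebra.IsGeometricallyReduced k S] (M : Submonoid S) (L : Type u) [CommRing L] [Algebra k L]
    [Algebra S L] [IsScalarTower k S L] [IsLocalization M L] :
    Algebra.IsGeometricallyReduced k L := by
  rw [Algebra.isGeometricallyReduced_field_iff]
  let Ω := AlgebraicClosure k
  haveI : IsReduced (Ω ⊗[k] S) := (Algebra.isGeometricallyReduced_field_iff k S).1 inferInstance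
  let M' : Submonoid (Ω ⊗[k] S) := M.map (Algebra.TensorProduct.includeRight (R := k) (A := Ω))
  exact isReduced_of_injective
    (IsLocalization.tensorProductEquivOfMapIncludeRight k Ω M L (Localization M')).toAlgHom
    (IsLocalization.tensorProductEquivOfMapIncludeRight k Ω M L (Localization M')).injective

end Groth.L13.PseudoComplete
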