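import Groth.Agent.L13.PseudoComplete.GeomRed
import Mathlib.RingTheory.DiscreteValuationRing.Basic
import Mathlib.RingTheory.LocalRing.ResidueField.Basic
import Mathlib.RingTheory.Localization.AtPrime.Basic
import Mathlib.RingTheory.TensorProduct.Quotient
import Mathlib.RingTheory.Spectrum.Prime.Basic
import Mathlib.RingTheory.Flat.Basic

/-!
Discrete valuation rings over a field extension dominating a given one.
-/

universe u

open TensorProduct IsLocalRing

namespace Groth.L13.PseudoComplete

/-- A local ring whose maximal ideal is generated by a nonzerodivisor maps onto a discrete valuation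
ring having the same residue field, with that generator as uniformizer. -/
theorem exists_dvr_quotient (B : Type u) [CommRing B] [IsLocalRing B] (t : B)
    (ht : maximalIdeal B = Ideal.span {t}) (hreg : ∀ b, t * b = 0 → b = 0) :
    ∃ J : Ideal B, J ≤ maximalIdeal B ∧ ∃ (_ : IsDomain (B ⧸ J)), IsDiscreteValuationRing (B ⧸ J) ∧
      Irreducible (Ideal.Quotient.mk J t) := by
  classical
  let J : Ideal B := ⨅ n, Ideal.span {t ^ n}
  have hJt : J ≤ Ideal.span {t} := (iInf_le _ 1).trans (by rw [pow_one])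
  have hJm : J ≤ maximalIdeal B := ht ▸ hJt
  have htu : ¬ IsUnit t := (mem_maximalIdeal t).1 (ht ▸ Ideal.mem_span_singleton_self t)
  have hregn : ∀ n b, t ^ n * b = 0 → b = 0 := by
    intro n
    induction n with
    | zero => intro b hb; simpa using hb
    | succ n ih =>
      intro b hb
      rw [pow_succ, mul_assoc] at hb
      exact hreg _ (ih _ hb)
  have hpow : ∀ N (w : B), IsUnit w → t ^ N * w ∉ J := by
    intro N w hw hmem
    obtain ⟨c, hc⟩ := Ideal.mem_span_singleton.1 ((Ideal.mem_iInf.1 hmem) (N + 1))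
    have := hregn N (w - t * c) (by rw [mul_sub, hc, pow_succ, mul_assoc, sub_self])
    exact htu (isUnit_of_mul_isUnit_left (x := t) (y := c) (sub_eq_zero.1 this ▸ hw))
  have hdec : ∀ x, x ∉ J → ∃ n w, IsUnit w ∧ x = t ^ n * w := by
    intro x hx
    have hex : ∃ n, x ∉ Ideal.span {t ^ n} := not_forall.1 fun h => hx (Ideal.mem_iInf.2 h)
    have h0 : Nat.find hex ≠ 0 := fun h0 => Nat.find_spec hex (by rw [h0, pow_zero]; simp)
    obtain ⟨n, hn⟩ := Nat.exists_eq_succ_of_ne_zero h0
    obtain ⟨w, hw⟩ := Ideal.mem_span_singleton.1 (not_not.1 (Nat.find_min hex (by omega : n < Nat.find hex)))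
    refine ⟨n, w, ?_, hw⟩
    by_contra hwu
    have hwm : w ∈ Ideal.span {t} := ht ▸ (mem_maximalIdeal w).2 hwu
    obtain ⟨c, hc⟩ := Ideal.mem_span_singleton.1 hwm
    refine Nat.find_spec hex ?_
    rw [hn, Ideal.mem_span_singleton]
    exact ⟨c, by rw [hw, hc, pow_succ, mul_assoc]⟩
  have hJ : J ≠ ⊤ := fun h => (maximalIdeal.isMaximal B).ne_top (top_le_iff.1 (h ▸ hJm))
  have hprime : J.IsPrime := by
    refine ⟨hJ, fun {x y} hxy => ?_⟩
    by_contra! h
    obtain ⟨n, v, hv, rfl⟩ := hdec x h.1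
    obtain ⟨n', w, hw, rfl⟩ := hdec y h.2
    refine hpow (n + n') (v * w) (hv.mul hw) ?_
    convert hxy using 1
    ring
  haveI : IsDomain (B ⧸ J) := (Ideal.Quotient.isDomain_iff_prime J).2 hprime
  have htn : Ideal.Quotient.mk J t ≠ 0 := fun h =>
    hpow 1 1 isUnit_one (by simpa using Ideal.Quotient.eq_zero_iff_mem.1 h)
  have hunit : ∀ b, IsUnit (Ideal.Quotient.mk J b) → IsUnit b := fun b hb => by
    by_contra h
    obtain ⟨c, hc⟩ := hb.exists_right_inv
    obtain ⟨c, rfl⟩ := Ideal.Quotient.mk_surjective c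
    rw [← map_mul, ← map_one (Ideal.Quotient.mk J), Ideal.Quotient.eq] at hc
    have : (1 : B) ∈ maximalIdeal B := by
      simpa using sub_mem (Ideal.mul_mem_right c _ ((mem_maximalIdeal b).2 h)) (hJm hc)
    exact (maximalIdeal.isMaximal B).ne_top ((Ideal.eq_top_iff_one _).2 this)
  have hirr : Irreducible (Ideal.Quotient.mk J t) := by
    refine ⟨fun h => htu (hunit t h), fun a b hab => ?_⟩
    obtain ⟨a, rfl⟩ := Ideal.Quotient.mk_surjective a
    obtain ⟨b, rfl⟩ := Ideal.Quotient.mk_surjective b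
    by_contra! h
    have ha : a ∈ Ideal.span {t} := ht ▸ (mem_maximalIdeal a).2 fun hu => h.1 (hu.map _)
    have hb : b ∈ Ideal.span {t} := ht ▸ (mem_maximalIdeal b).2 fun hu => h.2 (hu.map _)
    obtain ⟨a, rfl⟩ := Ideal.mem_span_singleton.1 ha
    obtain ⟨b, rfl⟩ := Ideal.mem_span_singleton.1 hb
    simp only [map_mul] at hab
    have h1 : (1 : B ⧸ J) = Ideal.Quotient.mk J a * (Ideal.Quotient.mk J t * Ideal.Quotient.mk J b) :=
      mul_left_cancel₀ htn (by rw [mul_one]; nth_rw 1 [hab]; ring)
    exact htu (hunit t (IsUnit.of_mul_eq_one (Ideal.Quotient.mk J a * Ideal.Quotient.mk J b)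
      (by rw [h1]; ring)))
  refine ⟨J, hJm, inferInstance, ?_, hirr⟩
  refine IsDiscreteValuationRing.ofHasUnitMulPowIrreducibleFactorization ⟨_, hirr, fun {x} hx => ?_⟩
  obtain ⟨x, rfl⟩ := Ideal.Quotient.mk_surjective x
  obtain ⟨n, w, hw, rfl⟩ := hdec x fun h => hx (Ideal.Quotient.eq_zero_iff_mem.2 h)
  exact ⟨n, (hw.map (Ideal.Quotient.mk J)).unit, by rw [IsUnit.unit_spec, map_mul, map_pow]⟩

/-- A local homomorphism of discrete valuation rings sending a uniformizer to a nonzero element is
injective. -/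
theorem injective_of_irreducible {R S : Type u} [CommRing R] [IsDomain R] [IsDiscreteValuationRing R]
    [CommRing S] [IsDomain S] (j : R →+* S) {π : R} (hπ : Irreducible π) (h : j π ≠ 0) :
    Function.Injective j := by
  rw [injective_iff_map_eq_zero]
  intro r hr
  by_contra hne
  obtain ⟨n, w, rfl⟩ := IsDiscreteValuationRing.eq_unit_mul_pow_irreducible hne hπ
  rw [map_mul, map_pow, mul_eq_zero] at hr
  rcases hr with hr | hr
  · exact (w.isUnit.map j).ne_zero hr
  · exact h (pow_eq_zero_iff'.1 hr).1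

/-- Over any field extension a discrete valuation ring with separable residue field is dominated by
one with separable residue field. -/
theorem exists_dvr_over (k k' R : Type u) [Field k] [Field k'] [Algebra k k'] [CommRing R]
    [IsDomain R] [IsDiscreteValuationRing R] [Algebra k R]
    (hR : Algebra.IsGeometricallyReduced k (R ⧸ maximalIdeal R)) :
    ∃ (R' : Type u) (_ : CommRing R') (_ : IsDomain R') (_ : IsDiscreteValuationRing R')
      (_ : Algebra k' R') (j : R →+* R'), IsLocalHom j ∧ Function.Injective j ∧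
        j.comp (algebraMap k R) = (algebraMap k' R').comp (algebraMap k k') ∧
        Algebra.IsGeometricallyReduced k' (R' ⧸ maximalIdeal R') := by
  obtain ⟨π, hπ⟩ := IsDiscreteValuationRing.exists_irreducible R
  have hm : maximalIdeal R = Ideal.span {π} := hπ.maximalIdeal_eq
  let κ := R ⧸ maximalIdeal R
  let T := k' ⊗[k] R
  let Tb := k' ⊗[k] κ
  let g : R →ₐ[k] κ := Ideal.Quotient.mkₐ k (maximalIdeal R)
  have hg : Function.Surjective g := Ideal.Quotient.mkₐ_surjective k _
  let q : T →ₐ[k'] Tb := Algebra.TensorProduct.map (AlgHom.id k' k') g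
  have hqs : Function.Surjective q :=
    Algebra.TensorProduct.map_surjective _ _ Function.surjective_id hg
  let incl : R →ₐ[k] T := Algebra.TensorProduct.includeRight
  have hqker : ∀ z, q z = 0 → ∃ c, z = incl π * c := by
    intro z hz
    have h1 : z ∈ RingHom.ker (Algebra.TensorProduct.map (AlgHom.id k k') g) := hz
    rw [Algebra.TensorProduct.lTensor_ker g hg] at h1
    have h2 : RingHom.ker g = Ideal.span {π} := by
      rw [← hm]
      exact Ideal.Quotient.mkₐ_ker k _
    rw [h2, Ideal.map_span, Set.image_singleton, Ideal.mem_span_singleton] at h1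
    exact h1
  have hπreg : ∀ z : T, incl π * z = 0 → z = 0 := by
    intro z hz
    have hinj : Function.Injective (LinearMap.mulLeft k π) := fun a b h => mul_left_cancel₀ hπ.ne_zero h
    have heq : ∀ z : T, incl π * z = LinearMap.lTensor k' (LinearMap.mulLeft k π) z := by
      intro z
      induction z using TensorProduct.induction_on with
      | zero => simp
      | tmul a b =>
        change ((1 : k') ⊗ₜ[k] π) * (a ⊗ₜ[k] b) = _
        simp
      | add a b ha hb => rw [mul_add, map_add, ha, hb]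
    rw [heq] at hz
    exact Module.Flat.lTensor_preserves_injective_linearMap _ hinj (hz.trans (map_zero _).symm)
  haveI : Algebra.IsGeometricallyReduced k' Tb := isGeometricallyReduced_baseChange k k' κ
  haveI : IsReduced Tb := Algebra.isReduced_of_isGeometricallyReduced k'
  haveI : Nontrivial κ := Ideal.Quotient.nontrivial_iff.2 (maximalIdeal.isMaximal R).ne_top
  haveI : Nontrivial Tb :=
    (Algebra.TensorProduct.includeLeft_injective (S := k') (A := k') (B := κ) (algebraMap k κ).injective).nontrivial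
  obtain ⟨Pb, hPb⟩ := Ideal.nonempty_minimalPrimes (I := (⊥ : Ideal Tb)) bot_ne_top
  haveI : Pb.IsPrime := hPb.1.1
  let L := Localization.AtPrime Pb
  haveI : Algebra.IsGeometricallyReduced k' L := isGeometricallyReduced_of_isLocalization Pb.primeCompl L
  have hLm : maximalIdeal L = ⊥ := by
    refine le_antisymm (fun x hx => ?_) bot_le
    rw [Ideal.mem_bot]
    refine IsReduced.eq_zero _ ((nilpotent_iff_mem_prime).2 fun Q hQ => ?_)
    have h1 : Q.comap (algebraMap Tb L) ≤ Pb := fun y hy => by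
      by_contra hy'
      exact Set.disjoint_left.1 ((IsLocalization.isPrime_iff_isPrime_disjoint Pb.primeCompl L Q).1 hQ).2 hy' hy
    haveI := hQ.comap (algebraMap Tb L)
    have h2 : Pb ≤ Q.comap (algebraMap Tb L) := hPb.2 ⟨hQ.comap _, bot_le⟩ h1
    obtain ⟨⟨a, s⟩, rfl⟩ := IsLocalization.mk'_surjective Pb.primeCompl x
    dsimp only at hx ⊢
    rw [IsLocalization.mk'_eq_mul_mk'_one]
    exact Q.mul_mem_right _ (h2 ((IsLocalization.AtPrime.mk'_mem_maximal_iff L Pb a s).1 hx))
  let P : Ideal T := Pb.comap q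
  let B := Localization.AtPrime P
  let t : B := algebraMap T B (incl π)
  have htb : q (incl π) = 0 := by
    have : g π = 0 := Ideal.Quotient.eq_zero_iff_mem.2 (hm ▸ Ideal.mem_span_singleton_self π)
    show Algebra.TensorProduct.map (AlgHom.id k' k') g ((1 : k') ⊗ₜ[k] π) = 0
    rw [Algebra.TensorProduct.map_tmul, this, TensorProduct.tmul_zero]
  have hmax : maximalIdeal B = Ideal.span {t} := by
    refine le_antisymm (fun x hx => ?_) ?_
    · obtain ⟨⟨a, s⟩, rfl⟩ := IsLocalization.mk'_surjective P.primeCompl x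
      have ha : q a ∈ Pb := (IsLocalization.AtPrime.mk'_mem_maximal_iff B P a s).1 hx
      have h0 : algebraMap Tb L (q a) = 0 := by
        rw [← Ideal.mem_bot, ← hLm]
        exact (IsLocalization.AtPrime.to_map_mem_maximal_iff L Pb _).2 ha
      obtain ⟨⟨v, hv⟩, hva⟩ := (IsLocalization.map_eq_zero_iff Pb.primeCompl L _).1 h0
      obtain ⟨v, rfl⟩ := hqs v
      obtain ⟨c, hc⟩ := hqker (v * a) (by rw [map_mul]; exact hva)
      rw [Ideal.mem_span_singleton]
      refine ⟨IsLocalization.mk' B c (⟨v, hv⟩ * s : P.primeCompl), ?_⟩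
      rw [IsLocalization.mul_mk'_eq_mk'_of_mul, ← hc]
      exact (IsLocalization.mk'_eq_of_eq' (by simp [mul_comm, mul_left_comm, mul_assoc])).symm
    · rw [Ideal.span_singleton_le_iff_mem]
      exact (IsLocalization.AtPrime.to_map_mem_maximal_iff B P _).2
        (show q (incl π) ∈ Pb by rw [htb]; exact zero_mem _)
  have hreg : ∀ b, t * b = 0 → b = 0 := by
    intro b hb
    obtain ⟨⟨a, s⟩, rfl⟩ := IsLocalization.mk'_surjective P.primeCompl b
    rw [IsLocalization.mul_mk'_eq_mk'_of_mul, IsLocalization.mk'_eq_zero_iff] at hb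
    obtain ⟨w, hw⟩ := hb
    rw [IsLocalization.mk'_eq_zero_iff]
    exact ⟨w, hπreg _ (by rw [mul_left_comm]; exact hw)⟩
  obtain ⟨J, hJ, hdom, hdvr, hirr⟩ := exists_dvr_quotient B t hmax hreg
  let ρ : T →ₐ[k'] L := (IsScalarTower.toAlgHom k' Tb L).comp q
  have hunits : ∀ s : P.primeCompl, IsUnit (ρ s) := fun s =>
    IsLocalization.map_units L (⟨q s, s.2⟩ : Pb.primeCompl)
  let φ : B →ₐ[k'] L := IsLocalization.liftAlgHom (f := ρ) hunits
  have hφm : ∀ x ∈ maximalIdeal B, φ x = 0 := by
    intro x hx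
    rw [hmax] at hx
    obtain ⟨c, rfl⟩ := Ideal.mem_span_singleton.1 hx
    have : φ t = 0 := by
      show IsLocalization.lift hunits (algebraMap T B (incl π)) = 0
      rw [IsLocalization.lift_eq]
      simp [ρ, htb]
    rw [map_mul, this, zero_mul]
  let ψ₀ : (B ⧸ J) →ₐ[k'] L := Ideal.Quotient.liftₐ J φ fun x hx => hφm x (hJ hx)
  have hmk : maximalIdeal (B ⧸ J) = Ideal.span {Ideal.Quotient.mk J t} := hirr.maximalIdeal_eq
  let ψ : ((B ⧸ J) ⧸ maximalIdeal (B ⧸ J)) →ₐ[k'] L := Ideal.Quotient.liftₐ _ ψ₀ fun x hx => by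
    rw [hmk] at hx
    obtain ⟨c, rfl⟩ := Ideal.mem_span_singleton.1 hx
    rw [map_mul]
    have : ψ₀ (Ideal.Quotient.mk J t) = 0 := hφm t (hmax ▸ Ideal.mem_span_singleton_self t)
    rw [this, zero_mul]
  haveI : Nontrivial L := inferInstance
  let j : R →+* B ⧸ J := (Ideal.Quotient.mk J).comp ((algebraMap T B).comp incl.toRingHom)
  refine ⟨B ⧸ J, inferInstance, hdom, hdvr, inferInstance, j, ⟨fun r hr => ?_⟩,
    injective_of_irreducible j hπ hirr.ne_zero, ?_, ?_⟩
  · by_contra h
    have hr' : r ∈ Ideal.span {π} := hm ▸ (mem_maximalIdeal r).2 h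
    obtain ⟨c, rfl⟩ := Ideal.mem_span_singleton.1 hr'
    rw [map_mul] at hr
    exact hirr.not_isUnit (isUnit_of_mul_isUnit_left hr)
  · ext c
    show Ideal.Quotient.mk J (algebraMap T B (incl (algebraMap k R c))) = _
    rw [AlgHom.commutes, IsScalarTower.algebraMap_apply k k' T, ← IsScalarTower.algebraMap_apply k' T B]
    rfl
  · haveI : Ideal.IsMaximal (maximalIdeal (B ⧸ J)) := maximalIdeal.isMaximal _
    refine Algebra.IsGeometricallyReduced.of_injective (B := L) ψ ((injective_iff_map_eq_zero ψ).2 fun x hx => ?_)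
    obtain ⟨y, rfl⟩ := Ideal.Quotient.mk_surjective x
    refine Ideal.Quotient.eq_zero_iff_mem.2 ((mem_maximalIdeal y).2 fun hy => ?_)
    exact ((hy.map (Ideal.Quotient.mk _)).map ψ).ne_zero hx

end Groth.L13.PseudoComplete
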