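import Groth.Agent.L13.PseudoComplete.Dvr
import Groth.Agent.L02.Gonflement.Main
import Groth.Agent.L01.CompletionReg
import Mathlib.RingTheory.AdicCompletion.LocalRing
import Mathlib.FieldTheory.SeparableClosure
import Mathlib.FieldTheory.IsSepClosed
import Mathlib.AlgebraicGeometry.Pullbacks
import Mathlib.CategoryTheory.Comma.Over.Pullback

/-!
Descent of the valuative extension property along dominating discrete valuation rings.
-/

universe u

open CategoryTheory AlgebraicGeometry IsLocalRing Limits

namespace Groth.L13.PseudoComplete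

variable {R R' : Type u} [CommRing R] [IsDomain R] [IsDiscreteValuationRing R] [CommRing R']
  [IsDomain R']

/-- The induced map of fraction fields. -/
noncomputable def fracMap (j : R →+* R') (hj : Function.Injective j) :
    FractionRing R →+* FractionRing R' :=
  IsFractionRing.lift (g := (algebraMap R' (FractionRing R')).comp j)
    ((IsFractionRing.injective R' (FractionRing R')).comp hj)

theorem fracMap_algebraMap (j : R →+* R') (hj : Function.Injective j) (r : R) :
    fracMap j hj (algebraMap R (FractionRing R) r) = algebraMap R' (FractionRing R') (j r) :=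
  IsLocalization.lift_eq _ r

/-- An extension over a dominating ring descends. -/
theorem exists_extension {X : Scheme.{u}} [IsLocalRing R'] (j : R →+* R') [IsLocalHom j]
    (hj : Function.Injective j) (x : Spec (CommRingCat.of (FractionRing R)) ⟶ X)
    (y' : Spec (CommRingCat.of R') ⟶ X)
    (h : Spec.map (CommRingCat.ofHom (algebraMap R' (FractionRing R'))) ≫ y' =
      Spec.map (CommRingCat.ofHom (fracMap j hj)) ≫ x) :
    ∃ y : Spec (CommRingCat.of R) ⟶ X,
      Spec.map (CommRingCat.ofHom (algebraMap R (FractionRing R))) ≫ y = x := by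
  obtain ⟨_, ⟨U, hU, rfl⟩, hzU, -⟩ :=
    X.isBasis_affineOpens.exists_subset_of_mem_open (Set.mem_univ (y' (closedPoint R'))) isOpen_univ
  change X.Opens at U
  replace hU : IsAffineOpen U := hU
  have hr' : Set.range y' ⊆ Set.range hU.fromSpec := by
    rintro _ ⟨q, rfl⟩
    rw [hU.range_fromSpec]
    exact ((IsLocalRing.specializes_closedPoint q).map y'.continuous).mem_open U.2 hzU
  have hr : Set.range x ⊆ Set.range hU.fromSpec := by
    rintro _ ⟨q, rfl⟩
    let q' : Spec (CommRingCat.of (FractionRing R')) := closedPoint (FractionRing R')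
    rw [Subsingleton.elim (α := PrimeSpectrum (FractionRing R)) q
      (Spec.map (CommRingCat.ofHom (fracMap j hj)) q')]
    show (Spec.map (CommRingCat.ofHom (fracMap j hj)) ≫ x) q' ∈ _
    rw [← h]
    exact hr' ⟨_, rfl⟩
  obtain ⟨b, hb⟩ := Spec.map_surjective (IsOpenImmersion.lift hU.fromSpec y' hr')
  obtain ⟨a, ha⟩ := Spec.map_surjective (IsOpenImmersion.lift hU.fromSpec x hr)
  have hby : Spec.map b ≫ hU.fromSpec = y' := by rw [hb, IsOpenImmersion.lift_fac]
  have hax : Spec.map a ≫ hU.fromSpec = x := by rw [ha, IsOpenImmersion.lift_fac]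
  have hab : b ≫ CommRingCat.ofHom (algebraMap R' (FractionRing R')) =
      a ≫ CommRingCat.ofHom (fracMap j hj) := by
    apply Spec.map_injective
    rw [← cancel_mono hU.fromSpec, Spec.map_comp, Spec.map_comp, Category.assoc, Category.assoc,
      hby, hax, h]
  have hmem : ∀ s, ∃ r, algebraMap R (FractionRing R) r = a.hom s := by
    intro s
    obtain ⟨r, hr | hr⟩ := ValuationRing.isInteger_or_isInteger R (a.hom s) |>.elim
      (fun ⟨r, hr⟩ => ⟨r, Or.inl hr⟩) (fun ⟨r, hr⟩ => (⟨r, Or.inr hr⟩ :
        ∃ r, algebraMap R (FractionRing R) r = a.hom s ∨ algebraMap R (FractionRing R) r = (a.hom s)⁻¹))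
    · exact ⟨r, hr⟩
    by_cases h0 : a.hom s = 0
    · exact ⟨0, by rw [h0, map_zero]⟩
    have h1 : j r * b.hom s = 1 := by
      apply IsFractionRing.injective R' (FractionRing R')
      have hs : algebraMap R' (FractionRing R') (b.hom s) = fracMap j hj (a.hom s) :=
        congrArg (fun f => f.hom s) hab
      rw [map_mul, map_one, hs, ← fracMap_algebraMap j hj, ← map_mul, hr, inv_mul_cancel₀ h0, map_one]
    obtain ⟨w, rfl⟩ : IsUnit r := isUnit_of_map_unit j r (IsUnit.of_mul_eq_one _ h1)
    refine ⟨↑w⁻¹, ?_⟩
    have : algebraMap R (FractionRing R) ↑w⁻¹ * algebraMap R (FractionRing R) ↑w = 1 := by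
      rw [← map_mul, Units.inv_mul, map_one]
    rw [hr] at this
    field_simp at this
    exact this
  let e : R ≃+* (algebraMap R (FractionRing R)).range :=
    RingEquiv.ofBijective (algebraMap R (FractionRing R)).rangeRestrict
      ⟨fun p q hpq => IsFractionRing.injective R (FractionRing R) (congrArg Subtype.val hpq),
        (algebraMap R (FractionRing R)).rangeRestrict_surjective⟩
  let a₀ : Γ(X, U) ⟶ CommRingCat.of R :=
    CommRingCat.ofHom (e.symm.toRingHom.comp (a.hom.codRestrict _ hmem))
  have ha₀ : a₀ ≫ CommRingCat.ofHom (algebraMap R (FractionRing R)) = a := by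
    ext s
    show algebraMap R (FractionRing R) (e.symm ⟨a.hom s, hmem s⟩) = a.hom s
    exact congrArg Subtype.val (e.apply_symm_apply ⟨a.hom s, hmem s⟩)
  exact ⟨Spec.map a₀ ≫ hU.fromSpec, by rw [← Spec.map_comp_assoc, ha₀, hax]⟩

/-- Pseudo-completeness descends along any field extension. -/
theorem of_baseChange (k k' : Type u) [Field k] [Field k'] [Algebra k k']
    (X : Over (Spec (CommRingCat.of k)))
    (h : ∀ (R : Type u) [CommRing R] [IsDomain R] [IsDiscreteValuationRing R] [Algebra k' R],
      Algebra.IsGeometricallyReduced k' (R ⧸ maximalIdeal R) →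
      ∀ x : Spec (CommRingCat.of (FractionRing R)) ⟶
          ((Over.pullback (Spec.map (CommRingCat.ofHom (algebraMap k k')))).obj X).left,
        x ≫ ((Over.pullback (Spec.map (CommRingCat.ofHom (algebraMap k k')))).obj X).hom =
          Spec.map (CommRingCat.ofHom (algebraMap k' (FractionRing R))) →
        ∃ y : Spec (CommRingCat.of R) ⟶
            ((Over.pullback (Spec.map (CommRingCat.ofHom (algebraMap k k')))).obj X).left,
          Spec.map (CommRingCat.ofHom (algebraMap R (FractionRing R))) ≫ y = x)
    (R : Type u) [CommRing R] [IsDomain R] [IsDiscreteValuationRing R] [Algebra k R]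
    (hR : Algebra.IsGeometricallyReduced k (R ⧸ maximalIdeal R))
    (x : Spec (CommRingCat.of (FractionRing R)) ⟶ X.left)
    (hx : x ≫ X.hom = Spec.map (CommRingCat.ofHom (algebraMap k (FractionRing R)))) :
    ∃ y : Spec (CommRingCat.of R) ⟶ X.left,
      Spec.map (CommRingCat.ofHom (algebraMap R (FractionRing R))) ≫ y = x := by
  obtain ⟨R', _, _, _, _, j, hloc, hj, hcomp, hgr⟩ := exists_dvr_over k k' R hR
  have hw : (Spec.map (CommRingCat.ofHom (fracMap j hj)) ≫ x) ≫ X.hom =
      Spec.map (CommRingCat.ofHom (algebraMap k' (FractionRing R'))) ≫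
        Spec.map (CommRingCat.ofHom (algebraMap k k')) := by
    rw [Category.assoc, hx, ← Spec.map_comp, ← Spec.map_comp]
    congr 1
    ext c
    show fracMap j hj (algebraMap k (FractionRing R) c) = algebraMap k' (FractionRing R') (algebraMap k k' c)
    rw [IsScalarTower.algebraMap_apply k R (FractionRing R), fracMap_algebraMap,
      IsScalarTower.algebraMap_apply k' R' (FractionRing R')]
    exact congrArg (algebraMap R' (FractionRing R')) (RingHom.congr_fun hcomp c)
  obtain ⟨y', hy'⟩ := h R' hgr (pullback.lift (Spec.map (CommRingCat.ofHom (fracMap j hj)) ≫ x)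
    (Spec.map (CommRingCat.ofHom (algebraMap k' (FractionRing R')))) hw) (pullback.lift_snd _ _ _)
  refine exists_extension j hj x (y' ≫ pullback.fst _ _) ?_
  exact (Category.assoc _ _ _).symm.trans
    ((congrArg (fun f => f ≫ pullback.fst _ _) hy').trans (pullback.lift_fst _ _ _))

/-- Pseudo-completeness ascends along separable field extensions. -/
theorem baseChange (k k' : Type u) [Field k] [Field k'] [Algebra k k']
    [Algebra.IsGeometricallyReduced k k']
    (X : Over (Spec (CommRingCat.of k)))
    (h : ∀ (R : Type u) [CommRing R] [IsDomain R] [IsDiscreteValuationRing R] [Algebra k R],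
      Algebra.IsGeometricallyReduced k (R ⧸ maximalIdeal R) →
      ∀ x : Spec (CommRingCat.of (FractionRing R)) ⟶ X.left,
        x ≫ X.hom = Spec.map (CommRingCat.ofHom (algebraMap k (FractionRing R))) →
        ∃ y : Spec (CommRingCat.of R) ⟶ X.left,
          Spec.map (CommRingCat.ofHom (algebraMap R (FractionRing R))) ≫ y = x)
    (R : Type u) [CommRing R] [IsDomain R] [IsDiscreteValuationRing R] [Algebra k' R]
    (hR : Algebra.IsGeometricallyReduced k' (R ⧸ maximalIdeal R))
    (x : Spec (CommRingCat.of (FractionRing R)) ⟶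
      ((Over.pullback (Spec.map (CommRingCat.ofHom (algebraMap k k')))).obj X).left)
    (hx : x ≫ ((Over.pullback (Spec.map (CommRingCat.ofHom (algebraMap k k')))).obj X).hom =
      Spec.map (CommRingCat.ofHom (algebraMap k' (FractionRing R)))) :
    ∃ y : Spec (CommRingCat.of R) ⟶
        ((Over.pullback (Spec.map (CommRingCat.ofHom (algebraMap k k')))).obj X).left,
      Spec.map (CommRingCat.ofHom (algebraMap R (FractionRing R))) ≫ y = x := by
  letI : Algebra k R := ((algebraMap k' R).comp (algebraMap k k')).toAlgebra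
  haveI : IsScalarTower k k' R := IsScalarTower.of_algebraMap_eq fun _ => rfl
  haveI := hR
  haveI : Algebra.IsGeometricallyReduced k (R ⧸ maximalIdeal R) :=
    isGeometricallyReduced_trans k k' _
  change x ≫ pullback.snd _ _ = _ at hx
  have hxk : (x ≫ pullback.fst _ _) ≫ X.hom =
      Spec.map (CommRingCat.ofHom (algebraMap k (FractionRing R))) := by
    rw [Category.assoc, pullback.condition, ← Category.assoc, hx, ← Spec.map_comp]
    congr 1
  obtain ⟨y, hy⟩ := h R inferInstance (x ≫ pullback.fst _ _) hxk
  have hyk : y ≫ X.hom = Spec.map (CommRingCat.ofHom (algebraMap k' R)) ≫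
      Spec.map (CommRingCat.ofHom (algebraMap k k')) := by
    obtain ⟨φ, hφ⟩ := Spec.map_surjective (y ≫ X.hom)
    rw [← hφ, ← Spec.map_comp]
    congr 1
    have h1 : φ ≫ CommRingCat.ofHom (algebraMap R (FractionRing R)) =
        CommRingCat.ofHom (algebraMap k (FractionRing R)) := by
      apply Spec.map_injective
      rw [Spec.map_comp, hφ, ← Category.assoc, hy, hxk]
    ext c
    apply IsFractionRing.injective R (FractionRing R)
    exact (congrArg (fun f => f.hom c) h1).trans (IsScalarTower.algebraMap_apply k R (FractionRing R) c)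
  refine ⟨pullback.lift y _ hyk, ?_⟩
  apply pullback.hom_ext
  · exact ((Category.assoc _ _ _).trans (congrArg _ (pullback.lift_fst _ _ _))).trans hy
  · refine ((Category.assoc _ _ _).trans (congrArg _ (pullback.lift_snd _ _ _))).trans
      (Eq.trans ?_ hx.symm)
    rw [← Spec.map_comp]
    rfl

/-- A complete discrete valuation ring with separably closed residue field dominating a given one. -/
theorem exists_complete_dvr (k R : Type u) [Field k] [CommRing R] [IsDomain R]
    [IsDiscreteValuationRing R] [Algebra k R]
    (hR : Algebra.IsGeometricallyReduced k (R ⧸ maximalIdeal R)) :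
    ∃ (R' : Type u) (_ : CommRing R') (_ : IsDomain R') (_ : IsDiscreteValuationRing R')
      (_ : Algebra k R') (j : R →+* R'), IsLocalHom j ∧ Function.Injective j ∧
        j.comp (algebraMap k R) = algebraMap k R' ∧
        IsAdicComplete (maximalIdeal R') R' ∧ IsSepClosed (ResidueField R') ∧
        Algebra.IsGeometricallyReduced k (R' ⧸ maximalIdeal R') := by
  obtain ⟨π, hπ⟩ := IsDiscreteValuationRing.exists_irreducible R
  have hm : maximalIdeal R = Ideal.span {π} := hπ.maximalIdeal_eq
  haveI : Algebra.IsGeometricallyReduced k (ResidueField R) := hR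
  let L := SeparableClosure (ResidueField R)
  haveI : Algebra.FormallyEtale (ResidueField R) L := Algebra.FormallyEtale.of_isSeparable _ _
  haveI : Algebra.IsGeometricallyReduced (ResidueField R) L :=
    (Groth.L03.GeomReduced.formallySmooth_iff _ _).1 inferInstance
  haveI : Algebra.IsGeometricallyReduced k L := isGeometricallyReduced_trans k (ResidueField R) L
  let ρ : R →+* L := (algebraMap (ResidueField R) L).comp (residue R)
  haveI : IsLocalHom ρ := ⟨fun r hr => by
    by_contra h
    have : residue R r = 0 := Ideal.Quotient.eq_zero_iff_mem.2 ((mem_maximalIdeal r).2 h)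
    exact hr.ne_zero (by simp [ρ, this])⟩
  obtain ⟨B, _, _, jB, σ, hσ, hlocB, -, hflat, hmax, hker, hσs, hnoeth⟩ :=
    Groth.L02.Gonflement.exists_flat_local_extension ρ
  haveI := hnoeth inferInstance
  have ht : maximalIdeal B = Ideal.span {jB π} := by
    rw [← hmax, hm, Ideal.map_span, Set.image_singleton]
  have hreg : ∀ b, jB π * b = 0 → b = 0 := by
    intro b hb
    letI := jB.toAlgebra
    haveI : Module.Flat R B := hflat
    have hs : IsSMulRegular B π :=
      Module.Flat.isSMulRegular_of_isRegular (IsRegular.of_ne_zero hπ.ne_zero)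
    exact hs (show π • b = π • (0 : B) by rw [Algebra.smul_def, smul_zero]; exact hb)
  obtain ⟨J, hJ, _, hdvr, hirr⟩ := exists_dvr_quotient B (jB π) ht hreg
  let C := B ⧸ J
  obtain ⟨_, hdvrA⟩ : ∃ _ : IsDomain (AdicCompletion (maximalIdeal C) C),
      IsDiscreteValuationRing (AdicCompletion (maximalIdeal C) C) := by
    haveI := Groth.L01.AnalUnram.isNoetherianRing_completion C
    rw [Groth.L01.CompletionReg.dvr_iff_regular_dim_one,
      ← Groth.L01.CompletionReg.isRegularLocalRing_iff_completion,
      Groth.L01.CompletionReg.ringKrullDim_completion, ← Groth.L01.CompletionReg.dvr_iff_regular_dim_one]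
    exact ⟨inferInstance, hdvr⟩
  let Ch := AdicCompletion (maximalIdeal C) C
  haveI : IsHausdorff (maximalIdeal C) C := inferInstance
  let of : C →+* Ch := algebraMap C Ch
  have hof : Function.Injective of := by
    rw [injective_iff_map_eq_zero]
    intro c hc
    exact AdicCompletion.of_injective (maximalIdeal C) C (a₁ := c) (a₂ := 0) (by
      rw [map_zero]
      exact hc)
  let j : R →+* Ch := of.comp ((Ideal.Quotient.mk J).comp jB)
  letI : Algebra k Ch := (j.comp (algebraMap k R)).toAlgebra
  have hjπ : j π ≠ 0 := fun h => hirr.ne_zero (hof (h.trans (map_zero _).symm))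
  let ε : Ch →ₐ[C] C ⧸ maximalIdeal C := AdicCompletion.evalOneₐ (maximalIdeal C)
  have hεker : ∀ z, z ∈ maximalIdeal Ch ↔ ε z = 0 := fun z => by
    rw [AdicCompletion.maximalIdeal_eq_map, ← AdicCompletion.ker_evalOneₐ_eq_map _ (IsNoetherian.noetherian _)]
    rfl
  have hCker : RingHom.ker σ = maximalIdeal B := hker
  let σC : C →+* L := Ideal.Quotient.lift J σ fun x hx => RingHom.mem_ker.1 (hCker ▸ hJ hx)
  let τ : C ⧸ maximalIdeal C →+* L := Ideal.Quotient.lift (maximalIdeal C) σC fun x hx => by
    rw [hirr.maximalIdeal_eq] at hx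
    obtain ⟨c, rfl⟩ := Ideal.mem_span_singleton.1 hx
    rw [map_mul]
    have hmem : jB π ∈ RingHom.ker σ := by
      rw [hCker, ht]
      exact Ideal.mem_span_singleton_self _
    have : σC (Ideal.Quotient.mk J (jB π)) = 0 := RingHom.mem_ker.1 hmem
    rw [this, zero_mul]
  let υ : Ch ⧸ maximalIdeal Ch →+* L :=
    Ideal.Quotient.lift (maximalIdeal Ch) (τ.comp ε.toRingHom) fun z hz => by
      show τ (ε z) = 0
      rw [(hεker z).1 hz, map_zero]
  have hυs : Function.Surjective υ := fun l => by
    obtain ⟨b, rfl⟩ := hσs l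
    refine ⟨Ideal.Quotient.mk _ (of (Ideal.Quotient.mk J b)), ?_⟩
    show τ (ε (algebraMap C Ch (Ideal.Quotient.mk J b))) = σ b
    rw [AlgHom.commutes]
    rfl
  have hυi : Function.Injective υ := by
    refine (injective_iff_map_eq_zero υ).2 fun z hz => ?_
    obtain ⟨y, rfl⟩ := Ideal.Quotient.mk_surjective z
    refine Ideal.Quotient.eq_zero_iff_mem.2 ((mem_maximalIdeal y).2 fun hy => ?_)
    exact ((hy.map (Ideal.Quotient.mk _)).map υ).ne_zero hz
  refine ⟨Ch, inferInstance, inferInstance, hdvrA, inferInstance, j, ⟨fun r hr => ?_⟩,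
    injective_of_irreducible j hπ hjπ, rfl, ?_, ?_, ?_⟩
  · by_contra h
    obtain ⟨c, rfl⟩ := Ideal.mem_span_singleton.1 (hm ▸ (mem_maximalIdeal r).2 h)
    rw [map_mul] at hr
    have h1 : IsUnit (j π) := isUnit_of_mul_isUnit_left hr
    exact hirr.not_isUnit (isUnit_of_map_unit of _ h1)
  · have := AdicCompletion.isAdicComplete_self (maximalIdeal C) (IsNoetherian.noetherian _)
    rwa [← AdicCompletion.maximalIdeal_eq_map] at this
  · haveI : IsSepClosed L := inferInstance
    exact IsSepClosed.of_exists_root _ fun P hP hirrP hsep => by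
      let e : ResidueField Ch ≃+* L := RingEquiv.ofBijective υ ⟨hυi, hυs⟩
      have hd : (P.map e.toRingHom).degree ≠ 0 := by
        rw [Polynomial.degree_map]
        exact (Polynomial.degree_pos_of_irreducible hirrP).ne'
      obtain ⟨l, hl⟩ := IsSepClosed.exists_root (P.map e.toRingHom) hd (hsep.map (f := e.toRingHom))
      refine ⟨e.symm l, e.injective ?_⟩
      rw [map_zero, ← hl.eq_zero, Polynomial.eval_map]
      show e.toRingHom (Polynomial.eval (e.symm l) P) = _
      rw [← Polynomial.eval₂_at_apply]
      simp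
  · refine Algebra.IsGeometricallyReduced.of_injective (B := L) ({ υ with commutes' := fun c => ?_ } :
      (Ch ⧸ maximalIdeal Ch) →ₐ[k] L) hυi
    show τ (ε (algebraMap C Ch (Ideal.Quotient.mk J (jB (algebraMap k R c))))) = algebraMap k L c
    rw [AlgHom.commutes]
    show σ (jB (algebraMap k R c)) = _
    rw [← RingHom.comp_apply, hσ]
    exact (IsScalarTower.algebraMap_apply k (ResidueField R) L c).symm

/-- It is enough to test complete rings with separably closed residue field. -/
theorem of_complete_sepClosed (k : Type u) [Field k] (X : Over (Spec (CommRingCat.of k)))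
    (h : ∀ (R : Type u) [CommRing R] [IsDomain R] [IsDiscreteValuationRing R] [Algebra k R],
      IsAdicComplete (maximalIdeal R) R → IsSepClosed (ResidueField R) →
      Algebra.IsGeometricallyReduced k (R ⧸ maximalIdeal R) →
      ∀ x : Spec (CommRingCat.of (FractionRing R)) ⟶ X.left,
        x ≫ X.hom = Spec.map (CommRingCat.ofHom (algebraMap k (FractionRing R))) →
        ∃ y : Spec (CommRingCat.of R) ⟶ X.left,
          Spec.map (CommRingCat.ofHom (algebraMap R (FractionRing R))) ≫ y = x)
    (R : Type u) [CommRing R] [IsDomain R] [IsDiscreteValuationRing R] [Algebra k R]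
    (hR : Algebra.IsGeometricallyReduced k (R ⧸ maximalIdeal R))
    (x : Spec (CommRingCat.of (FractionRing R)) ⟶ X.left)
    (hx : x ≫ X.hom = Spec.map (CommRingCat.ofHom (algebraMap k (FractionRing R)))) :
    ∃ y : Spec (CommRingCat.of R) ⟶ X.left,
      Spec.map (CommRingCat.ofHom (algebraMap R (FractionRing R))) ≫ y = x := by
  obtain ⟨R', _, _, _, _, j, hloc, hj, hcomp, hc, hsc, hgr⟩ := exists_complete_dvr k R hR
  obtain ⟨y', hy'⟩ := h R' hc hsc hgr (Spec.map (CommRingCat.ofHom (fracMap j hj)) ≫ x) (by
    rw [Category.assoc, hx, ← Spec.map_comp]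
    congr 1
    ext c
    show fracMap j hj (algebraMap k (FractionRing R) c) = algebraMap k (FractionRing R') c
    rw [IsScalarTower.algebraMap_apply k R (FractionRing R), fracMap_algebraMap,
      IsScalarTower.algebraMap_apply k R' (FractionRing R')]
    exact congrArg (algebraMap R' (FractionRing R')) (RingHom.congr_fun hcomp c))
  exact exists_extension j hj x y' hy'

end Groth.L13.PseudoComplete
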